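import Cfsg.Agent.H538.Two.Partner

/-!
# S4543, T4: `|Q| = 32`, `|R| = 8`
-/

set_option autoImplicit false

namespace Cfsg.Agent.H538.Two

open Subgroup Cfsg.Agent.H617.Two

theorem exists_pow_of_gen {E : Type*} [Group E] [Finite E] {u v : E} (huv : u * v = v * u)
    (hgen : closure ({u, v} : Set E) = ⊤) (x : E) : ∃ i j : ℕ, x = u ^ i * v ^ j := by
  have hc : Commute u v := huv
  have h1 : ∀ (w : E) (i : ℕ), (w ^ i)⁻¹ = w ^ ((orderOf w - 1) * i) := by
    intro w i
    have hk := orderOf_pos w
    rw [inv_eq_iff_mul_eq_one, ← pow_add]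
    have : i + (orderOf w - 1) * i = orderOf w * i := by
      obtain ⟨k, hk'⟩ : ∃ k', orderOf w = k' + 1 := ⟨orderOf w - 1, by omega⟩
      rw [hk']; simp; ring
    rw [this, pow_mul, pow_orderOf_eq_one, one_pow]
  have hx : x ∈ closure ({u, v} : Set E) := by rw [hgen]; trivial
  induction hx using Subgroup.closure_induction with
  | mem x hx =>
    rcases hx with rfl | hx
    · exact ⟨1, 0, by simp⟩
    · rw [Set.mem_singleton_iff] at hx; subst hx; exact ⟨0, 1, by simp⟩
  | one => exact ⟨0, 0, by simp⟩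
  | mul x y _ _ hx hy =>
    obtain ⟨i, j, rfl⟩ := hx
    obtain ⟨k, l, rfl⟩ := hy
    refine ⟨i + k, j + l, ?_⟩
    rw [pow_add, pow_add]
    have := (hc.pow_pow k j).eq
    calc u ^ i * v ^ j * (u ^ k * v ^ l) = u ^ i * (v ^ j * u ^ k) * v ^ l := by group
      _ = u ^ i * (u ^ k * v ^ j) * v ^ l := by rw [← this]
      _ = _ := by group
  | inv x _ hx =>
    obtain ⟨i, j, rfl⟩ := hx
    refine ⟨(orderOf u - 1) * i, (orderOf v - 1) * j, ?_⟩
    rw [mul_inv_rev, (hc.pow_pow ((orderOf u - 1) * i) ((orderOf v - 1) * j)).eq, h1 v j, h1 u i]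

/-- Two commuting generators: the order of a group. -/
theorem card_le_of_gen {E : Type*} [Group E] [Finite E] {u v : E} (huv : u * v = v * u)
    (hgen : closure ({u, v} : Set E) = ⊤) {m n : ℕ} (hu : u ^ m = 1) (hv : v ^ n = 1) (hm : 0 < m)
    (hn : 0 < n) : Nat.card E ≤ m * n := by
  let f : Fin m × Fin n → E := fun p => u ^ (p.1 : ℕ) * v ^ (p.2 : ℕ)
  have hf : Function.Surjective f := by
    intro x
    obtain ⟨i, j, rfl⟩ := exists_pow_of_gen huv hgen x
    refine ⟨(⟨i % m, Nat.mod_lt _ hm⟩, ⟨j % n, Nat.mod_lt _ hn⟩), ?_⟩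
    change u ^ (i % m) * v ^ (j % n) = u ^ i * v ^ j
    have h1 : ∀ (w : E) (k i : ℕ), w ^ k = 1 → w ^ (i % k) = w ^ i := by
      intro w k i hw
      conv_rhs => rw [← Nat.mod_add_div i k, pow_add, pow_mul, hw, one_pow, mul_one]
    rw [h1 u m i hu, h1 v n j hv]
  have := Nat.card_le_card_of_surjective f hf
  simpa using this

theorem T4 {D : Type*} [Group D] [Finite D] (hG : Good D) {Q R : Subgroup D} {y p q : D}
    (h : Str Q R y p q) (hQ : Nat.card Q = 32) : False := by
  have h2 : IsPGroup 2 D := IsPGroup.of_card (n := 6) (by rw [hG.card]; norm_num)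
  have hindex : Q.index = 2 := by
    have := Q.card_mul_index
    rw [hQ, hG.card] at this
    omega
  -- every element is in `Q` or in `y Q`
  have hcov : ∀ N : Subgroup D, R ≤ N → p ∈ N → q ∈ N → y ∈ N → N = ⊤ := by
    intro N hR hp hq hy
    have hQN : Q ≤ N := by
      intro x hx
      obtain ⟨r, hr, h1 | h1 | h1 | h1⟩ := h.cover x hx
      · rw [h1]; exact hR hr
      · rw [h1]; exact N.mul_mem hp (hR hr)
      · rw [h1]; exact N.mul_mem hq (hR hr)
      · rw [h1]; exact N.mul_mem (N.mul_mem hp hq) (hR hr)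
    rw [eq_top_iff]
    intro d _
    by_cases hd : d ∈ Q
    · exact hQN hd
    · have h1 : y⁻¹ * d ∈ Q := by
        rw [Subgroup.mul_mem_iff_of_index_two hindex, inv_mem_iff]
        exact iff_of_false h.yQ hd
      have : d = y * (y⁻¹ * d) := by group
      rw [this]
      exact N.mul_mem hy (hQN h1)
  -- `R` is normal
  have hRtop : normalizer (R : Set D) = ⊤ := by
    refine hcov _ Subgroup.le_normalizer ?_ ?_ ?_
    · refine Subgroup.mem_normalizer_fintype fun r hr => ?_
      have : p * r * p⁻¹ = r := by rw [h.pc r hr]; group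
      rw [this]; exact hr
    · refine Subgroup.mem_normalizer_fintype fun r hr => ?_
      have : q * r * q⁻¹ = r := by rw [h.qc r hr]; group
      rw [this]; exact hr
    · exact Subgroup.mem_normalizer_fintype fun r hr => h.yR r hr
  have hRn : R.Normal := Subgroup.normalizer_eq_top_iff.1 hRtop
  -- `|R| = 8`
  have hR8 : Nat.card R = 8 := by
    have hge : 8 ≤ Nat.card R := by
      let f : Fin 4 × R → Q := fun x => ⟨(![1, p, q, p * q] x.1) * x.2, Q.mul_mem (by
        obtain ⟨i, r⟩ := x
        fin_cases i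
        · exact Q.one_mem
        · exact h.pQ
        · exact h.qQ
        · exact Q.mul_mem h.pQ h.qQ) (h.RQ x.2.2)⟩
      have hf : Function.Surjective f := by
        rintro ⟨x, hx⟩
        obtain ⟨r, hr, h1 | h1 | h1 | h1⟩ := h.cover x hx
        · exact ⟨(0, ⟨r, hr⟩), Subtype.ext (by change 1 * r = x; rw [h1, one_mul])⟩
        · exact ⟨(1, ⟨r, hr⟩), Subtype.ext (by change p * r = x; rw [h1])⟩
        · exact ⟨(2, ⟨r, hr⟩), Subtype.ext (by change q * r = x; rw [h1])⟩
        · exact ⟨(3, ⟨r, hr⟩), Subtype.ext (by change p * q * r = x; rw [h1])⟩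
      have h3 := Nat.card_le_card_of_surjective f hf
      rw [hQ, Nat.card_prod, Nat.card_eq_fintype_card, Fintype.card_fin] at h3
      omega
    have hdvd : Nat.card R ∣ 32 := by rw [← hQ]; exact Subgroup.card_dvd_of_le h.RQ
    have hne32 : Nat.card R ≠ 32 := by
      intro h3
      exact h.pR (by rw [Subgroup.eq_of_le_of_card_ge h.RQ (by rw [h3, hQ])]; exact h.pQ)
    have hne16 : Nat.card R ≠ 16 := by
      intro h3
      have hi : (R.subgroupOf Q).index = 2 := by
        have h4 := (R.subgroupOf Q).card_mul_index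
        rw [Nat.card_congr (Subgroup.subgroupOfEquivOfLe h.RQ).toEquiv, h3, hQ] at h4
        omega
      have h5 := Subgroup.mul_mem_iff_of_index_two hi (a := ⟨p, h.pQ⟩) (b := ⟨q, h.qQ⟩)
      rw [Subgroup.mem_subgroupOf, Subgroup.mem_subgroupOf, Subgroup.mem_subgroupOf] at h5
      exact h.pqR (h5.2 (iff_of_false h.pR h.qR))
    have hle : Nat.card R ≤ 32 := Nat.le_of_dvd (by norm_num) hdvd
    interval_cases hc : Nat.card R <;> first | rfl | omega
  have hRi : R.index = 8 := by
    have := R.card_mul_index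
    rw [hR8, hG.card] at this
    omega
  -- the partner of `q`
  obtain ⟨g, hg⟩ := T0 h2 hG.gen R hRi (q := q) (g := y) (by
    have : y * q * y⁻¹ * q⁻¹ = p := by rw [h.yq]; group
    rw [this]; exact h.pR)
  -- `P = ⟨p⟩` is normal
  set P : Subgroup D := zpowers p with hP
  have hpP : p ∈ P := mem_zpowers p
  have hmemP : ∀ x : D, x * p * x⁻¹ ∈ P → x ∈ normalizer (P : Set D) := by
    intro x hx
    refine Subgroup.mem_normalizer_fintype fun r hr => ?_
    obtain ⟨k, rfl⟩ := Subgroup.mem_zpowers_iff.1 hr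
    have : x * p ^ k * x⁻¹ = (x * p * x⁻¹) ^ k := by rw [conj_zpow]
    rw [this]
    exact P.zpow_mem hx k
  have hqpq : q * p * q⁻¹ = p * p * p := by
    have h1 : p * q = p * p * (q * p) := h.comm
    have h3 : q * p = p * p * p * q := by
      calc q * p = (p * p * (p * p)) * (q * p) := by rw [h.pppp, one_mul]
        _ = p * p * (p * p * (q * p)) := by group
        _ = p * p * (p * q) := by rw [← h1]
        _ = p * p * p * q := by group
    rw [h3]; group
  have hPtop : normalizer (P : Set D) = ⊤ := by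
    refine hcov _ (fun r hr => ?_) ?_ ?_ ?_
    · refine hmemP r ?_
      have : r * p * r⁻¹ = p := by rw [← h.pc r hr]; group
      rw [this]; exact hpP
    · exact Subgroup.le_normalizer hpP
    · refine hmemP q ?_
      rw [hqpq]; exact P.mul_mem (P.mul_mem hpP hpP) hpP
    · refine hmemP y ?_
      rw [h.yp]; exact P.mul_mem (P.mul_mem hpP hpP) hpP
  have hPn : P.Normal := Subgroup.normalizer_eq_top_iff.1 hPtop
  -- `q` is central modulo `P`
  set π : D →* D ⧸ P := QuotientGroup.mk' P with hπ
  have hπp : π p = 1 := (QuotientGroup.eq_one_iff _).2 hpP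
  have hqc : ∀ d : D, π d * π q = π q * π d := by
    have hN : (centralizer {π q}).comap π = ⊤ := by
      refine hcov _ (fun r hr => ?_) ?_ ?_ ?_
      · rw [Subgroup.mem_comap, Subgroup.mem_centralizer_singleton_iff, ← map_mul, ← map_mul,
          h.qc r hr]
      · rw [Subgroup.mem_comap, hπp]; exact Subgroup.one_mem _
      · rw [Subgroup.mem_comap, Subgroup.mem_centralizer_singleton_iff]
      · rw [Subgroup.mem_comap, Subgroup.mem_centralizer_singleton_iff]
        have : π (y * q * y⁻¹) = π q := by rw [h.yq, map_mul, hπp, one_mul]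
        rw [map_mul, map_mul, map_inv, mul_inv_eq_iff_eq_mul] at this
        exact this
    intro d
    have hd : d ∈ (centralizer {π q}).comap π := by rw [hN]; trivial
    rw [Subgroup.mem_comap, Subgroup.mem_centralizer_singleton_iff] at hd
    exact hd
  have hqq : π q ^ 2 = 1 := by
    rw [pow_two, ← map_mul, h.qq, map_mul, hπp, one_mul]
  have hgen' : closure ({π q, π g} : Set (D ⧸ P)) = ⊤ := by
    have h1 : closure ({π q, π g} : Set (D ⧸ P)) = (closure ({q, g} : Set D)).map π := by
      rw [MonoidHom.map_closure]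
      congr 1
      ext x; simp [eq_comm]
    rw [h1, hg, ← MonoidHom.range_eq_map, MonoidHom.range_eq_top]
    exact QuotientGroup.mk'_surjective P
  have hcardP : Nat.card D = Nat.card (D ⧸ P) * Nat.card P :=
    Subgroup.card_eq_card_quotient_mul_card_subgroup P
  have hcardP' : Nat.card P = orderOf p := Nat.card_zpowers p
  have hbound : ∀ n, 0 < n → π g ^ n = 1 → Nat.card (D ⧸ P) ≤ 2 * n := fun n hn hgn =>
    card_le_of_gen (hqc g).symm hgen' hqq hgn (by norm_num) hn
  have hg8 : π g ^ 8 = 1 := by rw [← map_pow, hG.exp, map_one]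
  by_cases hs : p * p = 1
  · have h1 : orderOf p ≤ 2 := Nat.le_of_dvd (by norm_num) (orderOf_dvd_of_pow_eq_one (by
      rw [pow_two, hs]))
    have h3 := hbound 8 (by norm_num) hg8
    rw [hcardP', hG.card] at hcardP
    nlinarith
  · have h1 : orderOf p ≤ 4 := Nat.le_of_dvd (by norm_num) (orderOf_dvd_of_pow_eq_one (by
      have h3 : p ^ 4 = p * p * (p * p) := by rw [pow_succ, pow_succ, pow_two]; group
      rw [h3, h.pppp]))
    have hPQ : P ≤ Q := by rw [hP, Subgroup.zpowers_le]; exact h.pQ
    have hgQ : g ∉ Q := by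
      intro hgQ
      have h3 : closure ({q, g} : Set D) ≤ Q := by
        rw [Subgroup.closure_le]
        rintro x (rfl | hx)
        · exact h.qQ
        · rw [Set.mem_singleton_iff] at hx; subst hx; exact hgQ
      rw [hg, top_le_iff] at h3
      rw [h3, Subgroup.index_top] at hindex
      omega
    -- the centralizer of `y²`
    set C : Subgroup D := centralizer {y * y} with hC
    have hpC : p ∈ C := by
      rw [hC, Subgroup.mem_centralizer_singleton_iff, h.pc _ h.yy]
    have hqC : q ∈ C := by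
      rw [hC, Subgroup.mem_centralizer_singleton_iff, h.qc _ h.yy]
    have hyC : y ∈ C := by
      rw [hC, Subgroup.mem_centralizer_singleton_iff, mul_assoc]
    have hPC : P ≤ C := by rw [hP, Subgroup.zpowers_le]; exact hpC
    obtain ⟨i, j, hij⟩ := exists_pow_of_gen (hqc g).symm hgen' (π y)
    have hmem : (q ^ i * g ^ j)⁻¹ * y ∈ P := by
      rw [← QuotientGroup.eq_one_iff (N := P)]
      change π ((q ^ i * g ^ j)⁻¹ * y) = 1
      rw [map_mul, map_inv, map_mul, map_pow, map_pow, ← hij, inv_mul_cancel]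
    have hjodd : Odd j := by
      rw [← Nat.not_even_iff_odd]
      rintro ⟨k, rfl⟩
      have h3 : g ^ (k + k) ∈ Q := by
        rw [← two_mul, pow_mul]
        exact Q.pow_mem (Subgroup.sq_mem_of_index_two hindex g) k
      apply h.yQ
      have : y = q ^ i * g ^ (k + k) * ((q ^ i * g ^ (k + k))⁻¹ * y) := by group
      rw [this]
      exact Q.mul_mem (Q.mul_mem (Q.pow_mem h.qQ i) h3) (hPQ hmem)
    have hgjC : g ^ j ∈ C := by
      have : g ^ j = (q ^ i)⁻¹ * (y * ((q ^ i * g ^ j)⁻¹ * y)⁻¹) := by group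
      rw [this]
      exact C.mul_mem (C.inv_mem (C.pow_mem hqC i)) (C.mul_mem hyC (C.inv_mem (hPC hmem)))
    obtain ⟨k, hk⟩ := hjodd
    have hgC : g ∈ C := by
      have h3 : g = (g ^ j) ^ j := by
        rw [← pow_mul]
        obtain ⟨m, hm⟩ : ∃ m, j * j = 8 * m + 1 := by
          have : j * j % 8 = 1 := by
            have h4 : j % 8 = 1 ∨ j % 8 = 3 ∨ j % 8 = 5 ∨ j % 8 = 7 := by omega
            rcases h4 with h4 | h4 | h4 | h4 <;> rw [Nat.mul_mod, h4]
          exact ⟨j * j / 8, by omega⟩
        rw [hm, pow_add, pow_mul, hG.exp, one_pow, one_mul, pow_one]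
      rw [h3]; exact C.pow_mem hgjC j
    have hCtop : C = ⊤ := by
      rw [eq_top_iff, ← hg, Subgroup.closure_le]
      rintro x (rfl | hx)
      · exact hqC
      · rw [Set.mem_singleton_iff] at hx; subst hx; exact hgC
    have hyyZ : y * y ∈ center D := by
      rw [Subgroup.mem_center_iff]
      intro d
      have hd : d ∈ C := by rw [hCtop]; trivial
      rw [hC, Subgroup.mem_centralizer_singleton_iff] at hd
      exact hd
    have hy4 : y ^ 4 = 1 := by
      have h3 : y ^ 4 = y * y * (y * y) := by rw [pow_succ, pow_succ, pow_two]; group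
      rw [h3, hG.centre _ hyyZ]
    have hg4 : π g ^ 4 = 1 := by
      have h3 : π y ^ 4 = 1 := by rw [← map_pow, hy4, map_one]
      have hc : Commute (π q) (π g) := (hqc g).symm
      rw [hij, (hc.pow_pow i j).mul_pow, ← pow_mul, ← pow_mul, mul_comm i 4, mul_comm j 4,
        show 4 * i = 2 * (2 * i) by ring, pow_mul, hqq, one_pow, one_mul, hk,
        show 4 * (2 * k + 1) = 8 * k + 4 by ring, pow_add, pow_mul, hg8, one_pow, one_mul] at h3
      exact h3
    have h3 := hbound 4 (by norm_num) hg4
    rw [hcardP', hG.card] at hcardP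
    nlinarith

end Cfsg.Agent.H538.Two
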