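import Cfsg.Agent.H617.Two.Defs

/-!
# S4543, T0: the partner lemma
-/

set_option autoImplicit false

namespace Cfsg.Agent.H538.Two

open Subgroup Cfsg.Agent.H617.Two

/-- In a `2`-group, a proper subgroup lies in a subgroup of index two. -/
theorem exists_index_two {D : Type*} [Group D] [Finite D] (h2 : IsPGroup 2 D)
    {H : Subgroup D} (hH : H ≠ ⊤) : ∃ M : Subgroup D, H ≤ M ∧ M.index = 2 := by
  have : Fact (Nat.Prime 2) := ⟨Nat.prime_two⟩
  obtain ⟨k, hk⟩ := (IsPGroup.iff_card (p := 2)).1 h2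
  obtain ⟨m, hm⟩ := (IsPGroup.iff_card (p := 2)).1 (h2.to_subgroup H)
  have hdvd : 2 ^ m ∣ 2 ^ k := by
    rw [← hm, ← hk]; exact Subgroup.card_subgroup_dvd_card H
  have hle : m ≤ k := (Nat.pow_dvd_pow_iff_le_right (by norm_num)).1 hdvd
  have hne : m ≠ k := by
    rintro rfl
    exact hH (Subgroup.eq_top_of_card_eq H (by rw [hm, hk]))
  obtain ⟨M, hM, hHM⟩ := Sylow.exists_subgroup_card_pow_prime_le (p := 2) (n := m) (m := k - 1)
    (by rw [hk]; exact pow_dvd_pow 2 (by omega)) H hm (by omega)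
  refine ⟨M, hHM, ?_⟩
  have h := M.card_mul_index
  rw [hM, hk] at h
  have h3 : 2 ^ k = 2 ^ (k - 1) * 2 := by
    rw [← pow_succ]; congr 1; omega
  rw [h3] at h
  exact Nat.eq_of_mul_eq_mul_left (by positivity) h

/-- Two subgroups of index two with the same generators (among `a`, `b`) are equal. -/
theorem eq_of_index_two {D : Type*} [Group D] {a b : D} (hgen : closure ({a, b} : Set D) = ⊤)
    {M N : Subgroup D} (hM : M.index = 2) (hN : N.index = 2) (ha : a ∈ M ↔ a ∈ N)
    (hb : b ∈ M ↔ b ∈ N) : M = N := by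
  ext x
  have hx : x ∈ closure ({a, b} : Set D) := by rw [hgen]; trivial
  induction hx using Subgroup.closure_induction with
  | mem x hx =>
    rcases hx with rfl | hx
    · exact ha
    · rw [Set.mem_singleton_iff] at hx; subst hx; exact hb
  | one => simp
  | mul x y _ _ hx hy =>
    rw [Subgroup.mul_mem_iff_of_index_two hM, Subgroup.mul_mem_iff_of_index_two hN]
    exact iff_congr hx hy
  | inv x _ hx => rw [inv_mem_iff, inv_mem_iff]; exact hx

theorem T0 {D : Type*} [Group D] [Finite D] (h2 : IsPGroup 2 D)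
    (hgen : ∃ a b : D, closure ({a, b} : Set D) = ⊤) (W : Subgroup D) [W.Normal] (hW : W.index = 8)
    {q g : D} (hq : g * q * g⁻¹ * q⁻¹ ∉ W) : ∃ x, closure ({q, x} : Set D) = ⊤ := by
  have : Fact (Nat.Prime 2) := ⟨Nat.prime_two⟩
  -- the centralizer of `g` modulo `W`
  obtain ⟨M0, hM0, hqM0⟩ : ∃ M0 : Subgroup D, M0.index = 2 ∧ q ∉ M0 := by
    set g' : D ⧸ W := (g : D ⧸ W) with hg'
    set q' : D ⧸ W := (q : D ⧸ W) with hq'
    have hne : g' * q' ≠ q' * g' := by
      intro h
      apply hq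
      have : ((g * q * g⁻¹ * q⁻¹ : D) : D ⧸ W) = 1 := by
        rw [QuotientGroup.mk_mul, QuotientGroup.mk_mul, QuotientGroup.mk_mul,
          QuotientGroup.mk_inv, QuotientGroup.mk_inv]
        change g' * q' * g'⁻¹ * q'⁻¹ = 1
        rw [h]; group
      exact (QuotientGroup.eq_one_iff _).1 this
    set C : Subgroup (D ⧸ W) := centralizer {g'} with hC
    have hcard : Nat.card (D ⧸ W) = 8 := hW
    have hqC : q' ∉ C := by
      rw [hC, Subgroup.mem_centralizer_singleton_iff]
      intro h; exact hne h.symm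
    have hgC : g' ∈ C := by
      rw [hC, Subgroup.mem_centralizer_singleton_iff]
    have hZC : center (D ⧸ W) ≤ C := Subgroup.center_le_centralizer _
    have hgZ : g' ∉ center (D ⧸ W) := by
      intro h
      exact hne ((Subgroup.mem_center_iff.1 h q').symm)
    have h2' : IsPGroup 2 (D ⧸ W) := h2.to_quotient W
    have : Nontrivial (D ⧸ W) := by
      rw [← Finite.one_lt_card_iff_nontrivial, hcard]; norm_num
    have hZ1 : 1 < Nat.card (center (D ⧸ W)) := by
      have := h2'.center_nontrivial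
      exact Finite.one_lt_card
    have hdvdZ : Nat.card (center (D ⧸ W)) ∣ Nat.card C := Subgroup.card_dvd_of_le hZC
    have hneZ : Nat.card (center (D ⧸ W)) ≠ Nat.card C := by
      intro h
      apply hgZ
      rw [Subgroup.eq_of_le_of_card_ge hZC h.ge]
      exact hgC
    have hdvdC : Nat.card C ∣ 8 := by rw [← hcard]; exact Subgroup.card_subgroup_dvd_card C
    have hC8 : Nat.card C ≠ 8 := by
      intro h
      apply hqC
      rw [Subgroup.eq_top_of_card_eq C (by rw [h, hcard])]
      trivial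
    have hC4 : Nat.card C = 4 := by
      have h1 : Nat.card C ≤ 8 := Nat.le_of_dvd (by norm_num) hdvdC
      obtain ⟨m, hm⟩ := hdvdZ
      have hpos : 0 < Nat.card C := Nat.card_pos
      have hm0 : m ≠ 0 := by rintro rfl; rw [mul_zero] at hm; omega
      have hm1 : m ≠ 1 := by rintro rfl; exact hneZ (by rw [hm, mul_one])
      have : 4 ≤ Nat.card C := by rw [hm]; nlinarith [Nat.two_le_iff m |>.2 ⟨hm0, hm1⟩]
      interval_cases hc : Nat.card C <;> first | rfl | omega
    refine ⟨C.comap (QuotientGroup.mk' W), ?_, ?_⟩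
    · rw [Subgroup.index_comap_of_surjective _ (QuotientGroup.mk'_surjective W)]
      have := C.card_mul_index
      rw [hC4, hcard] at this
      omega
    · rw [Subgroup.mem_comap]; exact hqC
  obtain ⟨a, b, hab⟩ := hgen
  -- an element of `M0` outside the Frattini subgroup
  have key : ∀ x : D, (∀ M : Subgroup D, M.index = 2 → x ∈ M →
      (a ∈ M ↔ a ∈ M0) ∧ (b ∈ M ↔ b ∈ M0)) → ∃ x, closure ({q, x} : Set D) = ⊤ := by
    intro x hx
    by_contra hcon
    push Not at hcon
    obtain ⟨M, hM, hM2⟩ := exists_index_two h2 (hcon x)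
    have hqM : q ∈ M := hM (Subgroup.subset_closure (by simp))
    have hxM : x ∈ M := hM (Subgroup.subset_closure (by simp))
    obtain ⟨h1, h2⟩ := hx M hM2 hxM
    rw [eq_of_index_two hab hM2 hM0 h1 h2] at hqM
    exact hqM0 hqM
  have hnot : ∀ M : Subgroup D, M.index = 2 → ¬ (a ∈ M ∧ b ∈ M) := by
    rintro M hM ⟨ha, hb⟩
    have : closure ({a, b} : Set D) ≤ M := by
      rw [Subgroup.closure_le]
      rintro x (rfl | hx)
      · exact ha
      · rw [Set.mem_singleton_iff] at hx; subst hx; exact hb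
    rw [hab, top_le_iff] at this
    rw [this, Subgroup.index_top] at hM
    omega
  by_cases ha : a ∈ M0
  · have hb : b ∉ M0 := fun hb => hnot M0 hM0 ⟨ha, hb⟩
    refine key a fun M hM haM => ⟨by simp [ha, haM], ?_⟩
    have : b ∉ M := fun hb => hnot M hM ⟨haM, hb⟩
    simp [this, hb]
  · by_cases hb : b ∈ M0
    · refine key b fun M hM hbM => ⟨?_, by simp [hb, hbM]⟩
      have : a ∉ M := fun ha => hnot M hM ⟨ha, hbM⟩
      simp [this, ha]
    · refine key (a * b) fun M hM habM => ?_
      rw [Subgroup.mul_mem_iff_of_index_two hM] at habM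
      have h1 : a ∉ M := fun h => hnot M hM ⟨h, habM.1 h⟩
      have h2 : b ∉ M := fun h => hnot M hM ⟨habM.2 h, h⟩
      simp [h1, h2, ha, hb]

end Cfsg.Agent.H538.Two
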